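import Mathlib

/-!
# Quasi-finite algebras over an absolutely flat ring with algebraically closed residue fields

Over such a ring a finitely presented quasi-finite algebra has a quotient by a finitely generated nil ideal
which is finite étale.
-/

set_option autoImplicit false

universe u

open Polynomial TensorProduct

namespace Groth.Agent.AbsFlat93

variable {R : Type u} [CommRing R]

/-- An element of `mB` is killed by an element outside the prime `m`. -/
theorem exists_kill (hinv : ∀ r : R, ∃ s, r * r * s = r) (m : Ideal R) [m.IsPrime] {B : Type u} [CommRing B]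
    (φ : R →+* B) {x : B} (hx : x ∈ m.map φ) : ∃ e ∉ m, φ e * x = 0 := by
  rw [Ideal.map, Ideal.span] at hx
  induction hx using Submodule.span_induction with
  | mem y hy =>
    obtain ⟨r, hr, rfl⟩ := hy
    obtain ⟨s, hs⟩ := hinv r
    refine ⟨1 - r * s, fun h => ?_, ?_⟩
    · exact ‹m.IsPrime›.ne_top ((Ideal.eq_top_iff_one m).2 (by
        simpa using m.add_mem h (m.mul_mem_right s hr)))
    · rw [← map_mul, show (1 - r * s) * r = 0 by linear_combination -hs, map_zero]
  | zero => exact ⟨1, fun h => ‹m.IsPrime›.ne_top ((Ideal.eq_top_iff_one m).2 h), mul_zero _⟩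
  | add y z _ _ hy hz =>
    obtain ⟨e₁, h₁, k₁⟩ := hy
    obtain ⟨e₂, h₂, k₂⟩ := hz
    refine ⟨e₁ * e₂, fun h => (‹m.IsPrime›.mem_or_mem h).elim h₁ h₂, ?_⟩
    rw [map_mul]
    linear_combination φ e₂ * k₁ + φ e₁ * k₂
  | smul b y _ hy =>
    obtain ⟨e, he, k⟩ := hy
    refine ⟨e, he, ?_⟩
    rw [smul_eq_mul]
    linear_combination b * k

/-- Modules over absolutely flat rings are flat. -/
theorem flat (hinv : ∀ r : R, ∃ s, r * r * s = r) (M : Type u) [AddCommGroup M] [Module R M] :
    Module.Flat R M := by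
  rw [Module.Flat.iff_rTensor_injective']
  intro I
  let img : I ⊗[R] M →ₗ[R] M := (TensorProduct.lid R M).toLinearMap ∘ₗ LinearMap.rTensor M I.subtype
  have key : ∀ z : I ⊗[R] M, ∃ e : I, (e : R) * e = e ∧
      ∀ e' : I, (e' : R) * e = e → z = e' ⊗ₜ[R] img z := by
    intro z
    induction z using TensorProduct.induction_on with
    | zero => exact ⟨0, by simp, fun e' _ => by simp⟩
    | tmul r x =>
      obtain ⟨s, hs⟩ := hinv r
      refine ⟨⟨r * s, I.mul_mem_right s r.2⟩, by linear_combination (s : R) * hs, fun e' he' => ?_⟩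
      have h1 : (e' : R) * r = r := by
        simp only at he'
        linear_combination (r : R) * he' + (1 - (e' : R)) * hs
      have h2 : (r : R) • e' = r := Subtype.ext (by simpa [mul_comm] using h1)
      have h3 : img (r ⊗ₜ x) = (r : R) • x := by simp [img]
      rw [h3, TensorProduct.tmul_smul, TensorProduct.smul_tmul', h2]
    | add y z hy hz =>
      obtain ⟨e₁, i₁, k₁⟩ := hy
      obtain ⟨e₂, i₂, k₂⟩ := hz
      refine ⟨⟨e₁ + e₂ - e₁ * e₂, I.sub_mem (I.add_mem e₁.2 e₂.2) (I.mul_mem_right _ e₁.2)⟩,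
        by linear_combination (1 - (e₂ : R)) ^ 2 * i₁ + (1 - (e₁ : R)) * i₂, fun e' he' => ?_⟩
      simp only at he'
      have h1 : (e' : R) * e₁ = e₁ := by
        linear_combination (e₁ : R) * he' + (1 - (e' : R)) * (1 - (e₂ : R)) * i₁
      have h2 : (e' : R) * e₂ = e₂ := by
        linear_combination (e₂ : R) * he' + (1 - (e' : R)) * (1 - (e₁ : R)) * i₂
      rw [map_add, TensorProduct.tmul_add, ← k₁ e' h1, ← k₂ e' h2]
  rw [injective_iff_map_eq_zero]
  intro z hz
  obtain ⟨e, he, k⟩ := key z
  have : img z = 0 := by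
    show (TensorProduct.lid R M) (LinearMap.rTensor M I.subtype z) = 0
    rw [hz, map_zero]
  rw [k e he, this, TensorProduct.tmul_zero]

variable (hinv : ∀ r : R, ∃ s, r * r * s = r)
  (hroot : ∀ P : R[X], P.Monic → P.natDegree ≠ 0 → ∃ x, P.eval x = 0)

include hinv hroot in
/-- Local witnesses: up to nilpotents and locally on the base, an element satisfies a separable equation. -/
theorem exists_witness (B : Type u) [CommRing B] [Algebra R B] [Algebra.QuasiFinite R B]
    (c : B) (m : Ideal R) [m.IsMaximal] :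
    ∃ f ∉ m, ∃ (P U V : R[X]) (N : ℕ), P.Monic ∧ algebraMap R B f * aeval c P ^ (N + 1) = 0 ∧
      C f * (U * P + V * derivative P - 1) = 0 := by
  let k := R ⧸ m
  letI : Field k := Ideal.Quotient.field m
  haveI : IsAlgClosed k := IsAlgClosed.of_exists_root k fun p hp hirr => by
    obtain ⟨P, hP, hdeg, hPm⟩ := lifts_and_natDegree_eq_and_monic
      ((mem_lifts _).2 (map_surjective (Ideal.Quotient.mk m) Ideal.Quotient.mk_surjective p)) hp
    obtain ⟨x, hx⟩ := hroot P hPm (by rw [hdeg]; exact hirr.natDegree_pos.ne')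
    exact ⟨Ideal.Quotient.mk m x, by rw [← hP, eval_map_apply, hx, map_zero]⟩
  let I : Ideal B := (m.map (algebraMap R B)).radical
  let Q := B ⧸ I
  letI : Algebra k Q := (Ideal.Quotient.lift m ((Ideal.Quotient.mk I).comp (algebraMap R B)) fun a ha =>
    Ideal.Quotient.eq_zero_iff_mem.2 (Ideal.le_radical (Ideal.mem_map_of_mem _ ha))).toAlgebra
  haveI : IsScalarTower R k Q := IsScalarTower.of_algebraMap_eq fun x => rfl
  haveI : Algebra.QuasiFinite k Q := Algebra.QuasiFinite.of_restrictScalars R k Q
  haveI : Module.Finite k Q := Module.Finite.of_quasiFinite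
  haveI : IsReduced Q := (Ideal.isRadical_iff_quotient_reduced _).1 (Ideal.radical_isRadical _)
  let cQ : Q := Ideal.Quotient.mk I c
  have hint : IsIntegral k cQ := IsIntegral.of_finite k cQ
  have hsep : (minpoly k cQ).Separable :=
    PerfectField.separable_iff_squarefree.2 ((minpoly.isRadical k cQ).squarefree (minpoly.ne_zero hint))
  obtain ⟨u, v, huv⟩ := hsep
  obtain ⟨P, hP, -, hPm⟩ := lifts_and_natDegree_eq_and_monic
    ((mem_lifts _).2 (map_surjective (Ideal.Quotient.mk m) Ideal.Quotient.mk_surjective (minpoly k cQ)))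
    (minpoly.monic hint)
  obtain ⟨U, hU⟩ := map_surjective (Ideal.Quotient.mk m) Ideal.Quotient.mk_surjective u
  obtain ⟨V, hV⟩ := map_surjective (Ideal.Quotient.mk m) Ideal.Quotient.mk_surjective v
  have hD : U * P + V * derivative P - 1 ∈ m.map (C : R →+* R[X]) := by
    refine Ideal.mem_map_C_iff.2 fun n => Ideal.Quotient.eq_zero_iff_mem.1 ?_
    rw [← coeff_map, Polynomial.map_sub, Polynomial.map_add, Polynomial.map_mul, Polynomial.map_mul,
      ← derivative_map, hP, hU, hV, Polynomial.map_one, huv, sub_self, coeff_zero]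
  have hz : aeval c P ∈ I := by
    rw [← Ideal.Quotient.eq_zero_iff_mem]
    show (Ideal.Quotient.mkₐ R I) (aeval c P) = 0
    rw [← aeval_algHom_apply, ← aeval_map_algebraMap k]
    show aeval cQ (P.map (Ideal.Quotient.mk m)) = 0
    rw [hP, minpoly.aeval]
  obtain ⟨N, hN⟩ := hz
  obtain ⟨e₁, he₁, k₁⟩ := exists_kill hinv m (algebraMap R B) hN
  obtain ⟨e₂, he₂, k₂⟩ := exists_kill hinv m (C : R →+* R[X]) hD
  refine ⟨e₁ * e₂, fun h => (‹m.IsMaximal›.isPrime.mem_or_mem h).elim he₁ he₂, P, U, V, N, hPm, ?_, ?_⟩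
  · rw [map_mul, pow_succ]
    linear_combination algebraMap R B e₂ * aeval c P * k₁
  · rw [map_mul]
    linear_combination C e₁ * k₂

include hinv hroot in
/-- A quotient by a finitely generated nil ideal which is finite étale. -/
theorem exists_finite_etale (B : Type u) [CommRing B] [Algebra R B] [Algebra.FinitePresentation R B]
    [Algebra.QuasiFinite R B] :
    ∃ J : Ideal B, J.FG ∧ (∀ x ∈ J, IsNilpotent x) ∧ Module.Finite R (B ⧸ J) ∧ Algebra.Etale R (B ⧸ J) := by
  classical
  obtain ⟨S, hS⟩ := (inferInstance : Algebra.FiniteType R B).out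
  have H : ∀ c : B, ∃ G : Finset R, Ideal.span (G : Set R) = ⊤ ∧ ∀ f : G, ∃ (P U V : R[X]) (N : ℕ), P.Monic ∧
      algebraMap R B f * aeval c P ^ (N + 1) = 0 ∧ C (f : R) * (U * P + V * derivative P - 1) = 0 := by
    intro c
    let F : Set R := {f | ∃ (P U V : R[X]) (N : ℕ), P.Monic ∧ algebraMap R B f * aeval c P ^ (N + 1) = 0 ∧
      C f * (U * P + V * derivative P - 1) = 0}
    have : Ideal.span F = ⊤ := by
      by_contra hne
      obtain ⟨m, hm, hle⟩ := Ideal.exists_le_maximal _ hne
      obtain ⟨f, hf, hw⟩ := exists_witness hinv hroot B c m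
      exact hf (hle (Ideal.subset_span hw))
    obtain ⟨G, hG, hG'⟩ := (Ideal.span_eq_top_iff_finite F).1 this
    exact ⟨G, hG', fun f => hG f.2⟩
  choose G hG P U V N hPm hkill hsep using H
  have hglob : ∀ {M : Type u} [AddCommGroup M] [Module R M] (c : B) (z : M),
      (∀ f : G c, (f : R) • z = 0) → z = 0 := by
    intro M _ _ c z hz
    have h1 : Ideal.span (G c : Set R) ≤ LinearMap.ker (LinearMap.toSpanSingleton R M z) :=
      Ideal.span_le.2 fun f hf => hz ⟨f, hf⟩
    rw [hG c] at h1
    simpa using h1 (Submodule.mem_top (x := (1 : R)))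
  haveI : Algebra.IsIntegral R B := by
    refine ⟨fun b => ?_⟩
    suffices h : Algebra.adjoin R (S : Set B) ≤ integralClosure R B from h (hS ▸ trivial)
    refine Algebra.adjoin_le fun c hc => ?_
    refine ⟨∏ f : G c, P c f ^ (N c f + 1), monic_prod_of_monic _ _ fun f _ => (hPm c f).pow _, ?_⟩
    refine hglob c _ fun f => ?_
    rw [Algebra.smul_def, ← aeval_def, map_prod, ← Finset.mul_prod_erase _ _ (Finset.mem_univ f), map_pow,
      ← mul_assoc, hkill c f, zero_mul]
  haveI : Module.Finite R B := Algebra.IsIntegral.finite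
  let gens : Finset B := S.biUnion fun c => (Finset.univ : Finset (G c)).image fun (f : G c) =>
    algebraMap R B (f : R) * aeval c (P c f)
  let J : Ideal B := Ideal.span (gens : Set B)
  have hJfg : J.FG := ⟨gens, rfl⟩
  have hnil : ∀ x ∈ J, IsNilpotent x := by
    intro x hx
    have : J ≤ nilradical B := Ideal.span_le.2 fun y hy => by
      obtain ⟨c, -, hy⟩ := Finset.mem_biUnion.1 hy
      obtain ⟨f, -, rfl⟩ := Finset.mem_image.1 hy
      refine ⟨N c f + 1, ?_⟩
      rw [mul_pow, pow_succ, mul_assoc, hkill c f, mul_zero]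
      exact zero_mem _
    exact this hx
  let T := B ⧸ J
  haveI : Algebra.FinitePresentation R T := Algebra.FinitePresentation.quotient hJfg
  haveI : Module.Finite R T := Module.Finite.of_surjective (Ideal.Quotient.mkₐ R J).toLinearMap
    Ideal.Quotient.mk_surjective
  haveI : Module.Flat R T := flat hinv T
  haveI : Algebra.FormallyUnramified R T := by
    constructor
    have hd : ∀ c ∈ S, KaehlerDifferential.D R T (Ideal.Quotient.mk J c) = 0 := by
      intro c hc
      refine hglob c _ fun f => ?_
      set t : T := Ideal.Quotient.mk J c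
      have h0 : (f : R) • aeval t (P c f) = 0 := by
        show (f : R) • aeval (Ideal.Quotient.mkₐ R J c) (P c f) = 0
        rw [aeval_algHom_apply, ← map_smul, Algebra.smul_def]
        exact Ideal.Quotient.eq_zero_iff_mem.2 (Ideal.subset_span
          (Finset.mem_biUnion.2 ⟨c, hc, Finset.mem_image.2 ⟨f, Finset.mem_univ _, rfl⟩⟩))
      have h1 := congrArg (aeval t) (hsep c f)
      simp only [map_mul, map_sub, map_add, map_one, map_zero, aeval_C] at h1
      have h2 : (f : R) • (aeval t (derivative (P c f)) • KaehlerDifferential.D R T t) = 0 := by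
        rw [← Derivation.map_aeval, ← Derivation.map_smul, h0, map_zero]
      have h3 : algebraMap R T f = aeval t (U c f) * ((f : R) • aeval t (P c f)) +
          aeval t (V c f) * (algebraMap R T f * aeval t (derivative (P c f))) := by
        rw [Algebra.smul_def]
        linear_combination -h1
      rw [← IsScalarTower.algebraMap_smul T (f : R) (KaehlerDifferential.D R T t), h3, h0, mul_zero, zero_add,
        mul_smul, mul_smul, IsScalarTower.algebraMap_smul, h2, smul_zero]
    have hD : KaehlerDifferential.D R T = 0 := by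
      refine Derivation.ext_of_adjoin_eq_top (Ideal.Quotient.mkₐ R J '' (S : Set B)) ?_ ?_
      · rw [← AlgHom.map_adjoin, hS, Algebra.map_top, AlgHom.range_eq_top]
        exact Ideal.Quotient.mk_surjective
      · rintro _ ⟨c, hc, rfl⟩
        exact hd c hc
    rw [← not_nontrivial_iff_subsingleton]
    intro hnt
    have htop := KaehlerDifferential.span_range_derivation R T
    rw [hD] at htop
    obtain ⟨x, hx⟩ := exists_ne (0 : Ω[T⁄R])
    have hx' : x ∈ Submodule.span T (Set.range ⇑(0 : Derivation R T Ω[T⁄R])) := htop ▸ Submodule.mem_top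
    refine hx ?_
    have : Submodule.span T (Set.range ⇑(0 : Derivation R T Ω[T⁄R])) ≤ ⊥ :=
      Submodule.span_le.2 (by rintro _ ⟨a, rfl⟩; simp)
    exact (Submodule.mem_bot _).1 (this hx')
  exact ⟨J, hJfg, hnil, inferInstance, Algebra.Etale.of_formallyUnramified_of_flat⟩

/-- Absolute flatness and roots for a product of algebraically closed fields. -/
theorem pi_inv {ι : Type u} (k : ι → Type u) [∀ i, Field (k i)] (r : ∀ i, k i) : ∃ s, r * r * s = r :=
  ⟨fun i => (r i)⁻¹, funext fun i => mul_self_mul_inv (r i)⟩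

theorem pi_root {ι : Type u} (k : ι → Type u) [∀ i, Field (k i)] [∀ i, IsAlgClosed (k i)]
    (P : Polynomial (∀ i, k i)) (hP : P.Monic) (hd : P.natDegree ≠ 0) : ∃ x, P.eval x = 0 := by
  rcases isEmpty_or_nonempty ι with h | h
  · exact ⟨0, funext fun i => (IsEmpty.false i).elim⟩
  choose x hx using fun i => IsAlgClosed.exists_root (P.map (Pi.evalRingHom k i)) (by
    rw [degree_eq_natDegree (hP.map _).ne_zero, hP.natDegree_map]
    exact_mod_cast hd)
  refine ⟨x, funext fun i => ?_⟩
  have h2 := hx i
  rw [IsRoot, show x i = Pi.evalRingHom k i x from rfl, eval_map_apply] at h2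
  exact h2

end Groth.Agent.AbsFlat93
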